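import Mathlib
import Cfsg.Agent.Lib.StdInt.Main

/-!
# Standard subgroups with centre of order two: an element interchanging `t` with a conjugate in `L`
-/

set_option autoImplicit false

namespace CfsgLib.StdInt

open Subgroup Cfsg

section

variable {L : Type*} [Group L]

/-- the subgroup generated by the 2-elements of `Wf (conj s)` -/
def W0 (s : L) : Subgroup L := closure {v | v ∈ Wf (MulAut.conj s) ∧ Two v}

theorem mem_W0 {s v : L} (h : v ∈ Wf (MulAut.conj s)) (h2 : Two v) : v ∈ W0 s := subset_closure ⟨h, h2⟩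

theorem W0_le (s : L) : W0 s ≤ Wf (MulAut.conj s) := (closure_le _).2 fun _ h => h.1

/-- no automorphism of `W0 s` takes `t` to `s` -/
def NoSwap (t : L) : Prop := ∀ s, s * s = 1 → s ≠ 1 → s ≠ t →
  ∀ (ψ : W0 s ≃* W0 s) (x : W0 s), (x : L) = t → (ψ x : L) ≠ s

end

variable {G : Type*} [Group G] [Finite G]

theorem Fx.swap_norm {L K : Subgroup G} {t s g : G} (a : Fx L K t) (h1 : g * t * g⁻¹ = s) (h2 : g * s * g⁻¹ = t)
    (hc : Commute s t) (hn : s ≠ t) : g ∈ normalizer (closure {v | v ∈ WG L s ∧ Two v} : Set G) := by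
  have p := a.pair (h1 ▸ hc) (h1 ▸ hn)
  rw [h1] at p
  refine inv_mem_iff.1 (mem_normalizer_fintype fun x hx => ?_)
  induction hx using closure_induction with
  | mem v hv =>
    refine subset_closure ⟨?_, two_conj _ hv.2⟩
    simpa [← h2, mul_assoc] using mem_WG_cj (p.two_mem hv.1 hv.2)
  | one => simp
  | mul x y _ _ hx hy => simpa [mul_assoc] using mul_mem hx hy
  | inv x _ hx => simpa [mul_assoc] using inv_mem hx

theorem Fx2.exists_swap {L K : Subgroup G} {t g : G} (a : Fx2 L K t) (h1 : Commute (g * t * g⁻¹) t)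
    (h2 : g * t * g⁻¹ ≠ t) : ∃ k, k * t * k⁻¹ = g * t * g⁻¹ ∧ k * (g * t * g⁻¹) * k⁻¹ = t := by
  have p := a.pair h1 h2
  have q := a.pair (inv_comm h1) (inv_ne h2)
  obtain ⟨l, hl, l1, -⟩ := a.neg _ (a.mem h1 h2) p.b.sq p.b.ne h2
  obtain ⟨m, hm, m1, -⟩ := a.neg _ (a.mem (inv_comm h1) (inv_ne h2)) q.b.sq q.b.ne (inv_ne h2)
  have l2 : l * t * l⁻¹ = t := mul_inv_eq_iff_eq_mul.2 (a.cL hl)
  have m2 : g * m * g⁻¹ * (g * t * g⁻¹) * (g * m * g⁻¹)⁻¹ = g * t * g⁻¹ := by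
    calc _ = g * (m * t * m⁻¹) * g⁻¹ := by group
      _ = _ := by rw [mul_inv_eq_iff_eq_mul.2 (a.cL hm)]
  have m3 : g * m * g⁻¹ * t * (g * m * g⁻¹)⁻¹ = g * t * g⁻¹ * t := by
    calc _ = g * (m * (g⁻¹ * t * g⁻¹⁻¹) * m⁻¹) * g⁻¹ := by group
      _ = _ := by rw [m1, h1.eq]; group
  have ss := p.b.sq
  generalize g * m * g⁻¹ = n at *
  generalize g * t * g⁻¹ = s at *
  have e : ∀ x y z : G, x * y * z * (x * y)⁻¹ = x * (y * z * y⁻¹) * x⁻¹ := fun x y z => by group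
  refine ⟨l * n * l, ?_, ?_⟩
  · rw [e, l2, e, m3, ← conj_mul (a := s), l1, l2, mul_assoc, a.sq, mul_one]
  · rw [e, l1, e, ← conj_mul (a := s), m2, m3, ← mul_assoc s, ss, one_mul, l2]

variable {L : Subgroup G} {t : L}

omit [Finite G] in
theorem map_W0 (s : L) : (W0 s).map L.subtype = closure {v | v ∈ WG L s ∧ Two v} := by
  rw [W0, MonoidHom.map_closure]
  congr 1
  ext x
  constructor
  · rintro ⟨y, hy, rfl⟩
    exact ⟨(mem_Wf_aut (le_normalizer s.2)).1 (aut_conj s ▸ hy.1), two_coe.2 hy.2⟩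
  · exact fun hx => ⟨⟨x, (WG_le hx.1).1⟩, ⟨aut_conj s ▸ (mem_Wf_aut (le_normalizer s.2)).2 hx.1, two_coe.1 hx.2⟩, rfl⟩

/-- an element interchanging `t` and `s` induces an automorphism of `W0 s` -/
theorem exists_swap_aut {K : Subgroup G} (a : Fx L K t) {s : L} {g : G} (h1 : g * t * g⁻¹ = s)
    (h2 : g * s * g⁻¹ = t) (hn : (s : G) ≠ t) : ∃ ψ : W0 s ≃* W0 s, ∀ x, ((ψ x : L) : G) = g * (x : L) * g⁻¹ := by
  have h3 := a.swap_norm h1 h2 (a.cL s.2) hn
  rw [← map_W0] at h3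
  let e := equivMapOfInjective (W0 s) _ L.subtype_injective
  exact ⟨(e.trans (aut h3)).trans e.symm, fun x => congrArg Subtype.val (e.apply_symm_apply _)⟩

theorem not_noSwap [IsSimpleGroup G] (hG : ¬IsMulCommutative G) (hL : IsStandardSubgroup L) (h : Good2 t) :
    ¬NoSwap t := fun hn => by
  have a := fx2_of hL h
  obtain ⟨g, h1, h2⟩ := a.simple hG
  obtain ⟨k, k1, k2⟩ := a.exists_swap h1 h2
  have p := a.pair h1 h2
  let s : L := ⟨_, a.mem h1 h2⟩
  have s1 : s * s = 1 := Subtype.ext p.b.sq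
  have s2 : s ≠ 1 := fun e => p.b.ne (congrArg Subtype.val e)
  have s3 : s ≠ t := fun e => h2 (congrArg Subtype.val e)
  obtain ⟨ψ, hψ⟩ := exists_swap_aut a.toFx (s := s) k1 k2 h2
  exact hn s s1 s2 s3 ψ ⟨t, mem_W0 (h.good.inn s s2 s3 (Or.inl s1)) (two_of_sq h.sq)⟩ rfl
    (Subtype.ext ((hψ _).trans k1))

end CfsgLib.StdInt
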