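import Mathlib
import Cfsg.Agent.Lib.StdInt.Alt
import Cfsg.Agent.Lib.StdInt.Swap

/-!
# Double covers of large alternating groups: `t` is not interchanged with a non-central involution
-/

set_option autoImplicit false
set_option linter.unusedSectionVars false

namespace CfsgLib.StdInt

open Subgroup

namespace AltS

open Equiv Equiv.Perm

variable {L : Type*} [Group L] {α : Type*} [DecidableEq α] [Fintype α] {ρ : L →* Perm α} {t s : L}

/-- `g` moves points only along `S` -/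
def Bl (S g : Perm α) : Prop := ∀ y, g y = y ∨ g y = S y

theorem Bl.mul {S g k : Perm α} (hS : ∀ y, S (S y) = y) (hg : Bl S g) (hk : Bl S k) : Bl S (g * k) := fun y => by
  have := hk y
  have := hg y
  have := hg (S y)
  rw [Perm.mul_apply]
  grind

theorem Bl.sq {S g : Perm α} (hS : ∀ y, S (S y) = y) (hg : Bl S g) : g * g = 1 := Equiv.ext fun y => by
  have := hg y
  have := hg (S y)
  have := g.injective.eq_iff (a := S y) (b := y)
  rw [Perm.mul_apply, Perm.one_apply]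
  grind

theorem Bl.conj {S g w : Perm α} (hg : Bl S g) (hw : Commute w S) : Bl S (w * g * w⁻¹) := fun y => by
  rw [Perm.mul_apply, Perm.mul_apply]
  rcases hg (w⁻¹ y) with h | h <;> rw [h]
  · left; simp
  · right; simp [comm_apply hw]

theorem path5 {a b c d e : α} (h : [a, b, c, d, e].Nodup) :
    (swap a b * swap c d * (swap b c * swap d e)) ^ 5 = 1 := by
  generalize hg : swap a b * swap c d * (swap b c * swap d e) = g
  have k : ∀ z, g z = if z = a then b else if z = b then d else if z = d then e else if z = e then c else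
      if z = c then a else z := fun z => by
    simp only [← hg, Perm.mul_apply, swap_apply_def]; grind
  ext z
  simp only [pow_succ, pow_zero, Perm.mul_apply, Perm.one_apply, k]
  grind

theorem mu_sq {a b c d a' b' c' d' : α} (h : [a, b, c, d, a', b', c', d'].Nodup) :
    swap a b * swap a' b' * (swap c d * swap c' d') * (swap a b * swap a' b' * (swap c d * swap c' d')) = 1 := by
  ext z; simp only [Perm.mul_apply, swap_apply_def, Perm.one_apply]; grind

theorem fix5 {S w : Perm α} (hS : ∀ y, S (S y) = y) (h8 : S.support.card = 8) (hc : Commute w S) (h5 : w ^ 5 = 1)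
    {a : α} (ha : S a ≠ a) : w a = a := by
  by_contra hw
  have h2 : S ^ 2 = 1 := Equiv.ext hS
  have h10 : MulAction.period (w * S) a ∣ 10 := MulAction.pow_smul_eq_iff_period_dvd.1 (by
    rw [hc.mul_pow, show 10 = 5 * 2 from rfl, pow_mul, h5, mul_comm, pow_mul, h2]; simp)
  have n2 : ¬MulAction.period (w * S) a ∣ 6 := fun h => hw (by
    have := MulAction.pow_smul_eq_iff_period_dvd.2 h
    rwa [hc.mul_pow, pow_succ w, h5, show 6 = 2 * 3 from rfl, pow_mul, h2, one_pow, one_mul, mul_one] at this)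
  have n5 : ¬MulAction.period (w * S) a ∣ 5 := fun h => ha (by
    have := MulAction.pow_smul_eq_iff_period_dvd.2 h
    rwa [hc.mul_pow, h5, pow_succ S, show 4 = 2 * 2 from rfl, pow_mul, h2, one_pow, one_mul, one_mul] at this)
  have e : MulAction.period (w * S) a = 10 := by
    have := Nat.le_of_dvd (by norm_num) h10
    generalize MulAction.period (w * S) a = p at *
    interval_cases p <;> omega
  have := Finset.card_le_card_of_injOn (s := Finset.range 10) (t := S.support) (fun n => ((w * S) • ·)^[n] a)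
    (fun n _ => by
      beta_reduce
      rw [Finset.mem_coe, mem_support, smul_iterate_apply, Perm.smul_def,
        ← comm_apply ((hc.mul_left (.refl S)).pow_left n)]
      exact (Equiv.injective _).ne ha)
    (by rw [Finset.coe_range, ← e]; exact Function.iterate_injOn_Iio_minimalPeriod)
  simp [h8] at this

theorem exists_orb (S U : Perm α) (l : List α) (h : l.length * 4 < S.support.card) :
    ∃ a, S a ≠ a ∧ ∀ b ∈ l, a ≠ b ∧ a ≠ S b ∧ a ≠ U b ∧ a ≠ S (U b) := by
  obtain ⟨a, ha, h1⟩ := exists_blk S (l ++ l.map U) (by simp; omega)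
  exact ⟨a, ha, fun b hb => ⟨(h1 b (by simp [hb])).1, (h1 b (by simp [hb])).2,
    h1 (U b) (List.mem_append_right _ (List.mem_map_of_mem hb))⟩⟩

namespace Sp

variable (h : Sp ρ t)
include h

theorem lift_W0 {π : Perm α} (hm : π ∈ (Wf (MulAut.conj s)).map ρ) (h2 : π * π = 1) : ∃ v ∈ W0 s, ρ v = π := by
  obtain ⟨v, hv, rfl⟩ := hm
  exact ⟨v, mem_W0 hv (h.two_of h2), rfl⟩

omit h in
theorem comm_W0 {w : L} (hw : w ∈ W0 s) : Commute (ρ w) (ρ s) :=
  ((ind_conj s).comm (fix_of_mem_Wf (W0_le s hw))).symm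

theorem root_t (h1 : s * s = 1) (h2 : s ≠ 1) (h3 : s ≠ t) :
    ∃ u ∈ W0 s, u * u = t ∧ ∀ w ∈ W0 s, Two (w * u * w⁻¹ * u⁻¹) := by
  have hx := h.invol h1
  obtain ⟨a, a1, -⟩ := h.blk h1 h2 h3 [] (by simp)
  obtain ⟨b, b1, b2⟩ := h.blk h1 h2 h3 [a] (by simp)
  obtain ⟨c, c1, c2⟩ := h.blk h1 h2 h3 [a, b] (by simp)
  simp only [List.mem_cons, List.not_mem_nil, or_false, forall_eq_or_imp, forall_eq] at b2 c2
  have hn : [a, b, c, ρ s a, ρ s b, ρ s c].Nodup := by
    simp only [List.nodup_cons, List.mem_cons, List.not_mem_nil, or_false, not_or, not_false_eq_true,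
      List.nodup_nil]
    clear * - hx a1 b1 b2 c1 c2
    and_intros <;> grind
  have bl : Bl (ρ s) (swap b (ρ s b) * swap c (ρ s c)) := fun y => by
    simp only [Perm.mul_apply, swap_apply_def]; clear * - hx hn; grind
  obtain ⟨u, hu, e⟩ := h.lift_W0 (h.w_blocks (ind_conj s) hx hn) (bl.sq hx)
  refine ⟨u, hu, h.dt u _ _ _ _ (by clear * - hn; grind) e, fun w hw => h.two_of (Bl.sq hx ?_)⟩
  rw [map_mul, map_mul, map_mul, map_inv, map_inv, e, inv_eq_of_mul_eq_one_right (bl.sq hx)]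
  exact (bl.conj (comm_W0 hw)).mul hx bl

theorem root_s (h1 : s * s = 1) (h16 : 8 < (ρ s).support.card) {u : L} (uu : u * u = s) :
    ∃ w ∈ W0 s, ¬Two (w * u * w⁻¹ * u⁻¹) := by
  have hx := h.invol h1
  have hU : ∀ y, ρ u (ρ u y) = ρ s y := fun y => by rw [← uu, map_mul, Perm.mul_apply]
  have hc : ∀ y, ρ u (ρ s y) = ρ s (ρ u y) := fun y => by rw [← hU, ← hU]
  obtain ⟨a, a1, -⟩ := exists_orb (ρ s) (ρ u) [] (lt_of_le_of_lt (by simp) h16)
  obtain ⟨b, b1, b2⟩ := exists_orb (ρ s) (ρ u) [a] (lt_of_le_of_lt (by simp) h16)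
  obtain ⟨c, c1, c2⟩ := exists_orb (ρ s) (ρ u) [a, b] (lt_of_le_of_lt (by simp) h16)
  simp only [List.mem_cons, List.not_mem_nil, or_false, forall_eq_or_imp, forall_eq] at b2 c2
  have inj := (ρ u).injective
  have hn : [a, b, c, ρ s a, ρ s b, ρ s c, ρ u a, ρ u b, ρ u c, ρ s (ρ u a), ρ s (ρ u b), ρ s (ρ u c)].Nodup := by
    have i1 : ∀ y, ρ u (ρ u (ρ u (ρ u y))) = y := fun y => by rw [hU, hU, hx]
    simp only [← hU] at a1 b1 b2 c1 c2 ⊢
    simp only [List.nodup_cons, List.mem_cons, List.not_mem_nil, or_false, not_or, not_false_eq_true,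
      List.nodup_nil]
    have := i1 a
    have := i1 b
    have := i1 c
    generalize ρ u = U at *
    clear * - inj a1 b1 b2 c1 c2 i1
    and_intros <;> grind
  simp only [List.nodup_cons, List.mem_cons, List.not_mem_nil, or_false, not_or, not_false_eq_true,
    List.nodup_nil] at hn
  have hn' : [a, b, ρ u b, c, ρ s a, ρ s b, ρ s (ρ u b), ρ s c].Nodup := by
    simp only [List.nodup_cons, List.mem_cons, List.not_mem_nil, or_false, not_or, not_false_eq_true,
      List.nodup_nil]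
    clear * - hn
    and_intros <;> grind
  obtain ⟨w, hw, e⟩ := h.lift_W0 (h.w_mu (ind_conj s) hx hn') (mu_sq hn')
  refine ⟨w, hw, fun ⟨k, hk⟩ => ?_⟩
  have e2 : ρ w⁻¹ = ρ w := by rw [map_inv, inv_eq_iff_mul_eq_one, e, mu_sq hn']
  have e3 : ρ (w * u * w⁻¹ * u⁻¹) = ρ w * (ρ u * ρ w * (ρ u)⁻¹) := by
    rw [map_mul, map_mul, map_mul, e2, map_inv]; group
  rw [e, ← conj_mul, ← conj_mul, ← conj_mul, conj_swap, conj_swap, conj_swap, conj_swap, hc, hc, hc, hc, hU,
    hx] at e3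
  have e4 : ρ (w * u * w⁻¹ * u⁻¹) a = b ∧ ρ (w * u * w⁻¹ * u⁻¹) b = ρ s (ρ u c) ∧
      ρ (w * u * w⁻¹ * u⁻¹) (ρ s (ρ u c)) = a := by
    simp only [e3, Perm.mul_apply, swap_apply_def]; clear * - hn; and_intros <;> grind
  have := mem_of_pow_odd (H := MulAction.stabilizer (Perm α) a) (x := ρ (w * u * w⁻¹ * u⁻¹))
    ⟨k, by rw [← map_pow, hk, map_one]⟩ (n := 3) (by decide) (by
      rw [MulAction.mem_stabilizer_iff, Perm.smul_def, pow_three, Perm.mul_apply, Perm.mul_apply, e4.1, e4.2.1,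
        e4.2.2])
  rw [MulAction.mem_stabilizer_iff, Perm.smul_def, e4.1] at this
  exact b2.1 this

theorem five_t (h8 : (ρ s).support.card = 8) (hn : 16 ≤ Fintype.card α) :
    ∃ v ∈ W0 s, ∃ w ∈ W0 s, v ^ 5 = 1 ∧ w ^ 5 = 1 ∧ v * w * (v * w) = t := by
  obtain ⟨a, a1, -⟩ := exists_fixed (ρ s) [] (by simp; omega)
  obtain ⟨b, b1, b2⟩ := exists_fixed (ρ s) [a] (by simp; omega)
  obtain ⟨c, c1, c2⟩ := exists_fixed (ρ s) [a, b] (by simp; omega)
  obtain ⟨d, d1, d2⟩ := exists_fixed (ρ s) [a, b, c] (by simp; omega)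
  obtain ⟨e, e1, e2⟩ := exists_fixed (ρ s) [a, b, c, d] (by simp; omega)
  have hd : [a, b, c, d, e].Nodup := by clear * - b2 c2 d2 e2; grind
  have key : ∀ {a b c d : α}, [a, b, c, d].Nodup → ρ s a = a → ρ s b = b → ρ s c = c → ρ s d = d →
      ∃ v ∈ W0 s, ρ v = swap a b * swap c d := fun hn ha hb hc hd =>
    h.lift_W0 (h.w_fixed (ind_conj s) hn ha hb hc hd) (by
      clear * - hn; ext z; simp only [Perm.mul_apply, swap_apply_def, Perm.one_apply]; grind)
  have six : ∀ v : L, ρ v ^ 5 = 1 → (v ^ 6) ^ 5 = 1 ∧ ρ (v ^ 6) = ρ v := fun v hv => by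
    refine ⟨?_, by rw [map_pow, pow_succ, hv, one_mul]⟩
    rw [← pow_mul, mul_comm, pow_mul]
    rcases h.ker.1 ((map_pow ρ v 5).trans hv) with e | e <;> rw [e]
    exacts [one_pow _, by rw [show 6 = 2 * 3 from rfl, pow_mul, pow_two, h.tt, one_pow]]
  obtain ⟨i, hi, i1⟩ := key (a := a) (b := b) (c := c) (d := d) (by clear * - hd; grind) a1 b1 c1 d1
  obtain ⟨j, hj, j1⟩ := key (a := b) (b := c) (c := d) (d := e) (by clear * - hd; grind) b1 c1 d1 e1
  obtain ⟨k, hk, k1⟩ := key (a := d) (b := b) (c := c) (d := a) (by clear * - hd; grind) d1 b1 c1 a1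
  have j2 : ρ j = swap e d * swap b c := by
    rw [j1]; clear * - hd; ext z; simp only [Perm.mul_apply, swap_apply_def]; grind
  have h2 := six (i * j) (by rw [map_mul, i1, j1, path5 hd])
  have h3 := six (j * k) (by rw [map_mul, j2, k1, path5 (by clear * - hd; grind)])
  refine ⟨_, pow_mem (mul_mem hi hj) 6, _, pow_mem (mul_mem hj hk) 6, h2.1, h3.1,
    h.dt _ a d b c (by clear * - hd; grind) ?_⟩
  rw [map_mul, h2.2, h3.2, map_mul, map_mul, i1, j1, k1]
  clear * - hd; ext z; simp only [Perm.mul_apply, swap_apply_def]; grind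

theorem noSwap (hn : 16 ≤ Fintype.card α) : NoSwap t := fun s h1 h2 h3 ψ x hx e => by
  obtain ⟨_ | m, hm⟩ := h.eight h1 h2 h3
  · obtain ⟨v, hv, w, hw, v5, w5, vw⟩ := h.five_t hm hn
    obtain ⟨a, a1, -⟩ := h.blk h1 h2 h3 [] (by simp)
    have k : ∀ y : W0 s, (y : L) ^ 5 = 1 → ρ (ψ y) a = a := fun y hy =>
      fix5 (h.invol h1) hm (comm_W0 (ψ y).2) (by
        rw [← map_pow, ← Subgroup.coe_pow, ← map_pow, show y ^ 5 = 1 from Subtype.ext hy]; simp) a1
    have : x = ⟨v, hv⟩ * ⟨w, hw⟩ * (⟨v, hv⟩ * ⟨w, hw⟩) := Subtype.ext (hx.trans vw.symm)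
    refine a1 (Eq.trans (congrArg (fun z => ρ z a) e.symm) ?_)
    rw [this]
    simp only [map_mul, Subgroup.coe_mul, Perm.mul_apply, k ⟨v, hv⟩ v5, k ⟨w, hw⟩ w5]
  · obtain ⟨u, hu, uu, k⟩ := h.root_t h1 h2 h3
    have : x = ⟨u, hu⟩ * ⟨u, hu⟩ := Subtype.ext (hx.trans uu.symm)
    obtain ⟨w, hw, hn⟩ := h.root_s h1 (by omega) (u := ψ ⟨u, hu⟩) (Eq.trans (by rw [this, map_mul]; rfl) e)
    obtain ⟨y, hy⟩ := ψ.surjective ⟨w, hw⟩
    obtain ⟨l, hl⟩ := k y y.2
    refine hn ⟨l, ?_⟩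
    have h4 : (y * ⟨u, hu⟩ * y⁻¹ * ⟨u, hu⟩⁻¹) ^ 2 ^ l = 1 := Subtype.ext hl
    have h5 := congrArg (fun z => (ψ z : L)) h4
    simpa [hy] using h5

end Sp

end AltS

theorem alt_noSwap {L : Type*} [Group L] [Finite L] {n : ℕ} {σ : L →* alternatingGroup (Fin n)} {t : L}
    (h : McLRec.Dbl σ t) (hn : 16 ≤ n) : NoSwap t :=
  (AltS.sp_of_dbl h (by omega)).noSwap (by simpa using hn)

end CfsgLib.StdInt
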