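import Mathlib
import Cfsg.Agent.Lib.StdInt.Co0A
import Cfsg.Agent.S2069

/-! The facts of `StdInt.Defs` for `Co0`. -/

set_option autoImplicit false
set_option maxRecDepth 100000

namespace CfsgLib.StdInt

open Subgroup

namespace C0

open Cfsg CfsgLib.Leech CfsgLib.Golay CfsgLib.MType CfsgLib.Co1Rec CfsgLib.OrthE QuadraticMap
open CfsgLib.Mathieu (P24 code comp cpow idc inM24 img)
open CfsgLib.Comput (force force_eq)

theorem inner : Inner Co0 := by
  obtain ⟨σ, h⟩ := McLRec.exists_dbl (t := negAut) (orderOf_eq_prime (by rw [pow_two, negAut_mul_self])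
    negAut_ne_one) negAut_mem_center (nonsplit_of_perfect (Q := Spor.Co1) commutator_Co0 card_center
      (MulEquiv.refl _))
  exact dbl_inner h commutator_Co0 (inner_of_out Cfsg.Agent.S2069.result)

/-- every code word is a sum of commutators with `p` and `q` -/
noncomputable def sgOK (m p n q k : ℕ) (A B : List ℕ) : Bool :=
  isCode m && oddP p n && oddP q k && Nat.beq (img p m) m && Nat.beq (img q m) m &&
    allLT 4096 fun j => force (encL A j) fun a => force (encL B j) fun b => isCode a && isCode b &&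
      Nat.beq (Golay.cw j) (Nat.xor (Nat.xor a (img p a)) (Nat.xor b (img q b)))

theorem inM_of_oddP {p n : ℕ} (h : oddP p n = true) : inM24 p = true := by
  simp only [oddP, Bool.and_eq_true] at h
  exact h.1.1

theorem signs_le_W {m p n q k : ℕ} {A B : List ℕ} (h : sgOK m p n q k A B = true) :
    signs ≤ Wf (MulAut.conj (sN m)) := by
  simp only [sgOK, Bool.and_eq_true, Nat.beq_eq, force_eq] at h
  obtain ⟨⟨⟨⟨⟨hm, hp⟩, hq⟩, e1⟩, e2⟩, h⟩ := h
  rintro _ ⟨c, hc, rfl⟩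
  obtain ⟨j, hj, -, e⟩ := exists_sN hc
  have h1 := of_allLT h hj
  simp only [Bool.and_eq_true, Nat.beq_eq] at h1
  obtain ⟨⟨ha, hb⟩, h1⟩ := h1
  rw [e, h1, Nat.xor_eq, Nat.xor_eq, Nat.xor_eq, ← sN_mul (isCode_xor ha (isCode_img' (inM_of_oddP hp) ha))
    (isCode_xor hb (isCode_img' (inM_of_oddP hq) hb))]
  exact mul_mem (sN_mem_W hp ha ((pN_comm_iff (inM_of_oddP hp) hm).2 e1) (Co1Rec.signs_comm (sN_mem _) (sN_mem _)))
    (sN_mem_W hq hb ((pN_comm_iff (inM_of_oddP hq) hm).2 e2) (Co1Rec.signs_comm (sN_mem _) (sN_mem _)))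

theorem W_z0 : signs ≤ Wf (MulAut.conj z0) := signs_le_W (p := 0x71d6a9b01068d2fb20d5a12f208a25) (n := 7)
  (q := 0x132c9a482b6dea83aa0623e3371460) (k := 7)
  (A := [2605066, 11654144, 5063048, 5063048, 8242322, 10458373, 13222358, 1410188, 16553352, 10543366, 6411662, 0])
  (B := [2605066, 4845570, 14716939, 7221256, 4845570, 0, 7221256, 7221256, 4845570, 4845570, 2605066, 2605066])
  (by decide +kernel)

theorem W_c0 : signs ≤ Wf (MulAut.conj c0) := signs_le_W (p := 0xabe259b4e072930bac4ca12c819a41) (n := 11)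
  (q := 0x5d2b1788f051500b38899b6f260cc1) (k := 11)
  (A := [14716939, 1687640, 15598044, 14435674, 10506593, 13009064, 9748745, 442481, 7553498, 6877305, 14176296,
    9946275])
  (B := [0, 4845570, 0, 10305542, 4845570, 0, 4845570, 4845570, 4845570, 4845570, 0, 0]) (by decide +kernel)

theorem W_u0 : negAut ∈ Wf (MulAut.conj u0) := by
  have k : ∀ p n c, (oddP p n && isCode c && Nat.beq (img p 320502) 320502 && Nat.beq (img M24E.q2b c) c &&
      Nat.beq (comp p M24E.q2b) (comp M24E.q2b p)) = true → sN (c ^^^ img p c) ∈ Wf (MulAut.conj u0) :=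
    fun p n c h => by
      simp only [Bool.and_eq_true, Nat.beq_eq] at h
      obtain ⟨⟨⟨⟨h1, h2⟩, h3⟩, h4⟩, h5⟩ := h
      have hq : inM24 M24E.q2b = true := by decide +kernel
      refine sN_mem_W h1 h2 (((pN_comm_iff (inM_of_oddP h1) (by decide +kernel)).2 h3).mul_right ?_)
        (Commute.mul_right (Co1Rec.signs_comm (sN_mem _) (sN_mem _)) ((pN_comm_iff hq h2).2 h4).symm)
      rw [commute_iff_eq, pN_mul (inM_of_oddP h1) hq, pN_mul hq (inM_of_oddP h1), h5]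
  have h1 := mul_mem (k 0xa454b1ba162a453b82470bccd61115 3 15364076 (by decide +kernel))
    (k 0x1c233ba1556c8cca58e9709e459420 5 8252844 (by decide +kernel))
  rwa [sN_mul (by decide +kernel) (by decide +kernel), show _ ^^^ _ = 16777215 by decide +kernel, sN_full] at h1

/-- two 2-elements of `W` fixing only the obvious code words -/
noncomputable def fixOK (m a n b k c l : ℕ) : Bool :=
  isCode m && oddP a n && oddP b k && oddP c l && Nat.beq (img a m) m && Nat.beq (img b m) m &&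
    Nat.beq (img c m) m && force (comp a b) fun v => force (comp a c) fun w => inM24 v && inM24 w &&
      Nat.beq (cpow v 8) idc && Nat.beq (cpow w 8) idc && allLT 4096 fun j => force (Golay.cw j) fun d =>
        !(Nat.beq (img v d) d && Nat.beq (img w d) d) || Nat.beq d 0 || Nat.beq d 16777215 || Nat.beq d m ||
          Nat.beq d (Nat.xor m 16777215)

theorem fix_of_ok {m a n b k c l : ℕ} (h : fixOK m a n b k c l = true) (hs : signs ≤ Wf (MulAut.conj (sN m)))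
    {g : Co0} (hg : ∀ v ∈ Wf (MulAut.conj (sN m)), Two v → Commute g v) :
    g = 1 ∨ g = negAut ∨ g = sN m ∨ g = sN m * negAut := by
  simp only [fixOK, Bool.and_eq_true, Nat.beq_eq, force_eq] at h
  obtain ⟨⟨⟨⟨⟨⟨⟨hm, ha⟩, hb⟩, hc⟩, e1⟩, e2⟩, e3⟩, ⟨⟨⟨hv, hw⟩, v8⟩, w8⟩, h⟩ := h
  obtain ⟨d, hd, rfl⟩ := cent_signs fun e he => hg e (hs he) (two_of_sq (signs_mul_self he))
  obtain ⟨j, hj, -, e⟩ := exists_sN hd
  rw [e] at hg ⊢
  have k : ∀ b k, oddP b k = true → img b m = m → inM24 (comp a b) = true → cpow (comp a b) 8 = idc →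
      img (comp a b) (Golay.cw j) = Golay.cw j := fun b k hb e2 hv v8 =>
    (pN_comm_iff hv (isCode_cw hj)).1 (hg _ (by
      rw [← pN_mul (inM_of_oddP ha) (inM_of_oddP hb)]
      exact mul_mem (pN_mem_W ha ((pN_comm_iff (inM_of_oddP ha) hm).2 e1))
        (pN_mem_W hb ((pN_comm_iff (inM_of_oddP hb) hm).2 e2))) ⟨3, pN_pow hv v8⟩).symm
  have h1 := of_allLT h hj
  simp only [k b _ hb e2 hv v8, k c _ hc e3 hw w8, Nat.beq_refl, Bool.and_self, Bool.not_true, Bool.false_or,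
    Bool.or_eq_true, Nat.beq_eq] at h1
  rcases h1 with ((e | e) | e) | e <;> rw [e]
  exacts [Or.inl sN_zero, Or.inr (Or.inl sN_full), Or.inr (Or.inr (Or.inl rfl)), Or.inr (Or.inr (Or.inr (by
    rw [← sN_full, sN_mul hm (by decide +kernel), Nat.xor_eq])))]

theorem fix_z0 {g : Co0} (hg : ∀ v ∈ Wf (MulAut.conj z0), Two v → Commute g v) :
    g = 1 ∨ g = negAut ∨ g = z0 ∨ g = z0 * negAut :=
  fix_of_ok (a := 0xbd607a1a2f595aab248c94c081b841) (n := 5) (b := 0x8ce04448b66056a3d68d326ef1006e) (k := 15)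
    (c := 0x26d3a9ca6205aa43d905d0728dc4e) (l := 15) (by decide +kernel) W_z0 hg

theorem fix_c0 {g : Co0} (hg : ∀ v ∈ Wf (MulAut.conj c0), Two v → Commute g v) :
    g = 1 ∨ g = negAut ∨ g = c0 ∨ g = c0 * negAut :=
  fix_of_ok (a := 0x5aaa72ca29bd883a4da67b1c012030) (n := 5) (b := 0x5d8b150aad71d019bd26a0ef20408c) (k := 11)
    (c := 0x72a33b8cf0b54c97d2415a0ac13404) (l := 11) (by decide +kernel) W_c0 hg

theorem mono_conj {g e : Co0} (hg : g ∈ monoGrp) (he : e ∈ signs) : g * e * g⁻¹ ∈ signs := by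
  obtain ⟨c, hc, σ, rfl⟩ := hg
  have := mul_mem (mul_mem (show _ ∈ signs from ⟨c, hc, rfl⟩) (permAut_conj_mem_signs σ he))
    (inv_mem (show _ ∈ signs from ⟨c, hc, rfl⟩))
  simpa only [mul_inv_rev, mul_assoc] using this

theorem mono_of_comm {g : Co0} (h : Commute g c0) : g ∈ monoGrp := by
  obtain ⟨g', hg, e⟩ := cent_cc (g := g) (congrArg QuotientGroup.mk h.eq)
  rcases mk_eq_mk_co1.1 e with rfl | rfl
  exacts [hg, mul_mem hg (sgnAut_mem_monoGrp _ _)]

theorem nrm_c {s w : Co0} (hs : s ∈ signs) (hm : w ∈ monoGrp) (hw : Odd (orderOf w)) (hc : Commute w s) :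
    Odd (Nat.card (Nc s w)) ∨ ∃ r ∈ Nc s w, r * r = 1 ∧ r ≠ 1 ∧ r ≠ s := by
  refine or_iff_not_imp_right.2 fun hn => ?_
  have k : ∀ e ∈ signs, w * e * w⁻¹ = e ∨ w * e * w⁻¹ = e * s := fun e he => by
    have h1 : e⁻¹ * (w * e * w⁻¹) ∈ Nc s w := by
      have := mul_mem (mem_Nc (w := w) (Commute.inv_left (Co1Rec.signs_comm he hs))) (inv_mem (self_mem_Nc s w))
      simpa only [inv_inv, mul_assoc] using this
    by_contra! h2
    exact hn ⟨_, h1, signs_mul_self (mul_mem (inv_mem he) (mono_conj hm he)),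
      fun e => h2.1 (inv_mul_eq_one.1 e).symm, fun e => h2.2 (inv_mul_eq_iff_eq_mul.1 e)⟩
  have h2 : w * w ∈ signs := cent_signs fun e he => mul_inv_eq_iff_eq_mul.1 (by
    rw [show w * w * e * (w * w)⁻¹ = w * (w * e * w⁻¹) * w⁻¹ by group]
    rcases k e he with h | h
    · rw [h, h]
    · rw [h, ← conj_mul, h, hc.eq, mul_inv_cancel_right, mul_assoc, signs_mul_self hs, mul_one])
  rw [one_of_odd_two hw ⟨2, by
    rw [← signs_mul_self h2, show 2 ^ 2 = 4 from rfl]; simp only [pow_succ, pow_zero, one_mul, mul_assoc]⟩]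
  exact odd_Nc_one s

theorem π0_zero {x : Spor.Co1} (h : x = 1 ∨ x = zz) : π0 x = 0 :=
  (coord_QQ.ker x (h.elim (fun e => e ▸ one_mem _) fun e => e ▸ zz_mem)).2 h

theorem nrm_z {s w : Co0} (hs : s = z0 ∨ s = z0 * negAut) (hw : Odd (orderOf w)) (hc : Commute w s) :
    Odd (Nat.card (Nc s w)) ∨ ∃ r ∈ Nc s w, r * r = 1 ∧ r ≠ 1 ∧ r ≠ s := by
  have cs : ∀ g, Commute g s ↔ Commute g z0 := fun g => by rcases hs with rfl | rfl; exacts [Iff.rfl, comm_neg]
  let S : AddSubmonoid V8 :=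
    { carrier := {v | ∃ y ∈ Nc s w, y ∈ Q0 ∧ π0 y = v}
      zero_mem' := ⟨1, one_mem _, one_mem _, π0_zero (Or.inl rfl)⟩
      add_mem' := by
        rintro _ _ ⟨x, x1, x2, rfl⟩ ⟨y, y1, y2, rfl⟩
        exact ⟨x * y, mul_mem x1 y1, mul_mem x2 y2, coord_QQ.map_mul _ (mk_mem_QQ x2) _ (mk_mem_QQ y2)⟩ }
  by_cases h : ∃ v ∈ S, v ≠ 0
  · obtain ⟨v, hv, h0⟩ := h
    obtain ⟨y, y1, y2, y3⟩ := irr2 S (by
      rintro e he - _ ⟨y, y1, y2, rfl⟩
      obtain ⟨g, hg, rfl⟩ := ct_QQ.surj e he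
      obtain ⟨g, rfl⟩ := QuotientGroup.mk_surjective g
      exact ⟨_, conj_mem_Nc ((cs g).2 (comm_zz.1 hg)) y1, Q0_norm (comm_zz.1 hg) y2,
        (ct_QQ.act _ hg _ (mk_mem_QQ y2)).symm⟩) hv h0 (vb 1)
    have h1 : π0 y ≠ 0 := fun e => absurd (vb_eq_zero 1 (by norm_num) (y3 ▸ e)) one_ne_zero
    refine Or.inr ⟨y, y1, eq_of_mk_Q0 (mul_mem y2 y2) (one_mem _) ((coord_QQ.sq _ (mk_mem_QQ y2)).1 ?_),
      fun e => h1 (π0_zero (Or.inl (by rw [e]; rfl))), fun e => h1 (π0_zero (Or.inr ?_))⟩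
    · rw [y3, q_vb 1 (by norm_num)]; rfl
    · rw [e]
      rcases hs with rfl | rfl
      exacts [rfl, (mk_eq_mk_co1.2 (Or.inr rfl)).symm]
  · have hz : (w : Spor.Co1) * zz = zz * w := comm_zz.2 ((cs w).1 hc)
    rw [one_of_odd_two hw (two_of_mk (ct_QQ.mem_of_ρ hz (ct_QQ.ext' ?_)))]
    · exact Or.inl (odd_Nc_one s)
    rintro _ ⟨x, hx, rfl⟩
    have h1 : x⁻¹ * (w * x * w⁻¹) ∈ Nc s w := by
      have := mul_mem (mem_Nc (w := w) ((cs x).2 (Q0_comm hx)).inv_left) (inv_mem (self_mem_Nc s w))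
      simpa only [inv_inv, mul_assoc] using this
    have h2 := ct_QQ.π_comm hz (mk_mem_QQ hx)
    have h3 : π0 (x⁻¹ * (w * x * w⁻¹) : Co0) = 0 := by_contra fun e =>
      h ⟨_, ⟨_, h1, mul_mem (inv_mem hx) (Q0_norm ((cs w).1 hc) hx), rfl⟩, e⟩
    rw [← aa' (π0 x) ((ρ0 w).1 _)]
    exact (congrArg _ (h2.symm.trans h3)).trans (add_zero _)

end C0

open C0 Co1Rec Leech in
theorem co0_good : Good Leech.negAut ∧ Inner Cfsg.Co0 := by
  refine ⟨good_of_reps inner negAut_ne_one negAut_mul_self (fun _ => Leech.mem_center_iff)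
    (fun s => ∃ x, (x = z0 ∨ x = c0 ∨ x = u0) ∧ (s = x ∨ s = x * negAut)) (fun l h1 h2 h3 => ?_) ?_ ?_ ?_, inner⟩
  · obtain ⟨x, hx, h | h⟩ := cls h1 h2 h3
    exacts [⟨_, ⟨x, hx, Or.inl rfl⟩, h⟩, ⟨_, ⟨x, hx, Or.inr rfl⟩, h⟩]
  · rintro _ ⟨_, rfl | rfl | rfl, rfl | rfl⟩ <;> try rw [conj_neg]
    exacts [W_z0 MType.negAut_mem_signs, W_z0 MType.negAut_mem_signs, W_c0 MType.negAut_mem_signs,
      W_c0 MType.negAut_mem_signs, W_u0, W_u0]
  · rintro s w ⟨_, rfl | rfl | rfl, h⟩ h1 h2 h3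
    · exact nrm_z h h2 h3
    · rcases h with rfl | rfl
      exacts [nrm_c (sN_mem _) (mono_of_comm h3) h2 h3,
        nrm_c (mul_mem (sN_mem _) MType.negAut_mem_signs) (mono_of_comm (comm_neg.1 h3)) h2 h3]
    · exact absurd h1 (not_u0 h)
  · have k : ∀ x a : Cfsg.Co0, (a = 1 ∨ a = negAut ∨ a = x ∨ a = x * negAut) →
        a = 1 ∨ a = negAut ∨ a = x * negAut ∨ a = x * negAut * negAut := fun x a h => by
      rw [mul_assoc, negAut_mul_self, mul_one]; tauto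
    rintro s a ⟨_, rfl | rfl | rfl, h⟩ h1 h2
    · rcases h with rfl | rfl
      exacts [fix_z0 h2, k _ _ (fix_z0 (conj_neg z0 ▸ h2))]
    · rcases h with rfl | rfl
      exacts [fix_c0 h2, k _ _ (fix_c0 (conj_neg c0 ▸ h2))]
    · exact absurd h1 (not_u0 h)

end CfsgLib.StdInt
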